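import Groth.Agent.ShHomColim.Abstract
import Groth.Agent.ModTensor.SheafHom
import Groth.Agent.ModTensor.ProjSheaf
import Groth.Agent.ModFac.Basic
import Mathlib.Algebra.Category.ModuleCat.Sheaf.Quasicoherent
import Mathlib.CategoryTheory.Sites.LocallyBijective

/-!
# Internal homs out of modules of finite presentation commute with filtered colimits
-/

set_option linter.style.haveILetI false
set_option backward.isDefEq.respectTransparency false
set_option backward.isDefEq.respectTransparency.types false

universe u

open CategoryTheory CategoryTheory.Limits Opposite MonoidalCategory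

namespace Groth.Agent.ShHomColim

open Groth.Agent.ModTensor

variable {C : Type u} [SmallCategory C] {J : GrothendieckTopology C} (O : Sheaf J CommRingCat.{u})

/-- Tensoring on the left preserves finite colimits. -/
theorem preservesFiniteColimits_tensorBi_obj (Z : ModSite.Mod O) :
    PreservesFiniteColimits ((ModSite.tensorBi O).obj Z) := by
  have : PreservesColimitsOfSize.{0, 0} ((ModSite.tensorBi O).obj Z) :=
    preservesColimitsOfSize_shrink.{0, u, 0, u} _
  exact ⟨fun _ => inferInstance⟩

/-- Restriction commutes with colimits. -/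
theorem preservesColimitsOfShape_restr (U : C) (I : Type u) [SmallCategory I] :
    PreservesColimitsOfShape I (ModSite.restr O U) where
  preservesColimit {K} := by
    let L := K ⋙ fg O
    have : PreservesColimitsOfShape I (sh O) := (shAdj O).leftAdjoint_preservesColimits.1
    have : PreservesColimitsOfShape I (sh (O.over U)) := (shAdj (O.over U)).leftAdjoint_preservesColimits.1
    have : PreservesColimitsOfShape I (resP O.obj U) :=
      ⟨fun {F} => ⟨fun {c} hc => ⟨PresheafOfModules.evaluationJointlyReflectsColimits _ _ fun X =>
        isColimitOfPreserves (PresheafOfModules.evaluation _ (op X.unop.left)) hc⟩⟩⟩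
    have : PreservesColimitsOfShape I (sh O ⋙ ModSite.restr O U) :=
      preservesColimitsOfShape_of_natIso (shRestrIso O U)
    have : PreservesColimit (L ⋙ sh O) (ModSite.restr O U) :=
      preservesColimit_of_preserves_colimit_cocone (isColimitOfPreserves (sh O) (colimit.isColimit L))
        (isColimitOfPreserves (sh O ⋙ ModSite.restr O U) (colimit.isColimit L))
    exact preservesColimit_of_iso_diagram (ModSite.restr O U)
      (K₁ := L ⋙ sh O) (Functor.associator K (fg O) (sh O) ≪≫
        Functor.isoWhiskerLeft K (counitIso O) ≪≫ Functor.rightUnitor K)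

variable {O}

/-- Isomorphisms of modules are detected on a covering. -/
theorem isIso_of_isIso_restr {ι : Type*} {X : ι → C} (hX : J.CoversTop X) {M N : ModSite.Mod O}
    (φ : M ⟶ N) [∀ i, IsIso ((ModSite.restr O (X i)).map φ)] : IsIso φ := by
  let ψ := (SheafOfModules.toSheaf (ModSite.ringSh O)).map φ
  have hb : ∀ (i : ι) (V : C) (q : V ⟶ X i), Function.Bijective (ψ.hom.app (op V)) := fun i V q => by
    let θ := (SheafOfModules.toSheaf (ModSite.ringSh (O.over (X i)))).map ((ModSite.restr O (X i)).map φ)
    have : IsIso θ := inferInstance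
    have : IsIso θ.hom := inferInstanceAs (IsIso ((sheafToPresheaf _ _).map θ))
    exact ConcreteCategory.bijective_of_isIso (θ.hom.app (op (Over.mk q)))
  have h : IsIso ψ := by
    refine (Sheaf.isLocallyBijective_iff_isIso ψ).1 ⟨⟨fun {W} x y e => ?_⟩, ⟨fun {W} s => ?_⟩⟩
    · refine J.superset_covering (fun V g hg => ?_) (hX W.unop)
      obtain ⟨i, ⟨q⟩⟩ := (Sieve.mem_ofObjects_iff ..).1 hg
      exact (hb i V q).1 (by
        have n := fun z => ConcreteCategory.congr_hom (ψ.hom.naturality g.op) z
        exact (n x).trans ((congrArg _ e).trans (n y).symm))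
    · refine J.superset_covering (fun V g hg => ?_) (hX W)
      obtain ⟨i, ⟨q⟩⟩ := (Sieve.mem_ofObjects_iff ..).1 hg
      exact (hb i V q).2 _
  exact isIso_of_reflects_iso φ (SheafOfModules.toSheaf (ModSite.ringSh O))

/-- The internal hom out of a module with a finite presentation preserves filtered colimits. -/
theorem preserves_of_presentation' (F : ModSite.Mod O) [ModSite.HasSheafHom F]
    (P : SheafOfModules.Presentation.{u, u, u} F) [Finite P.generators.I] [Finite P.relations.I]
    {Λ : Type u} [SmallCategory Λ] [IsFiltered Λ] (E : Λ ⥤ ModSite.Mod O) :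
    PreservesColimit E (ModSite.sheafHom F) := by
  classical
  haveI := fun P : ModSite.Mod O => hasSheafHom P
  haveI := preservesFiniteColimits_tensorBi_obj O
  haveI : ∀ Z, ((ModSite.tensorBi O).obj Z).Additive := fun Z =>
    Functor.additive_of_iso ((tensorFlipIso O).app Z)
  letI := Fintype.ofFinite P.generators.I
  letI := Fintype.ofFinite P.relations.I
  exact preserves_of_presentation (ModSite.tensorBi O) (fun P => ModSite.sheafHom P)
    (fun P => ModSite.sheafHomAdj P) E ((tensorFlipIso O).app (ModSite.unit O) ≪≫ unitTensorIso O)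
    ModFac.proj SheafOfModules.ιFree (ModFac.sum_proj_ιFree P.generators.I)
    ModFac.proj SheafOfModules.ιFree (ModFac.sum_proj_ιFree P.relations.I)
    (ModFac.presMap_π P) P.isColimit

/-- The internal hom out of a module of finite presentation preserves filtered colimits. -/
theorem preserves_sheafHom (F : ModSite.Mod O) [ModSite.HasSheafHom F]
    [SheafOfModules.IsFinitePresentation (R := ModSite.ringSh O) F]
    {Λ : Type u} [SmallCategory Λ] [IsFiltered Λ] (D : Λ ⥤ ModSite.Mod O) :
    PreservesColimit D (ModSite.sheafHom F) := by
  obtain ⟨σ, hσ⟩ := SheafOfModules.IsFinitePresentation.exists_quasicoherentData F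
  have key : ∀ i, IsIso ((ModSite.restr O (σ.X i)).map (colimit.post D (ModSite.sheafHom F))) := fun i => by
    haveI := preservesColimitsOfShape_restr O (σ.X i) Λ
    haveI := hσ.isFinite_presentation i
    haveI : ModSite.HasSheafHom ((ModSite.restr O (σ.X i)).obj F) := hasSheafHom _
    have := preserves_of_presentation' (O := O.over (σ.X i)) ((ModSite.restr O (σ.X i)).obj F)
      (σ.presentation i) (D ⋙ ModSite.restr O (σ.X i))
    let e : ModSite.restr O (σ.X i) ⋙ ModSite.sheafHom ((ModSite.restr O (σ.X i)).obj F) ≅
        ModSite.sheafHom F ⋙ ModSite.restr O (σ.X i) :=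
      Adjunction.rightAdjointUniq
        (((ModSite.sheafHomAdj ((ModSite.restr O (σ.X i)).obj F)).comp
          (ModSite.extZeroAdj O (σ.X i))).ofNatIsoLeft (extZeroTensorIso O (σ.X i) F))
        ((ModSite.extZeroAdj O (σ.X i)).comp (ModSite.sheafHomAdj F))
    have : PreservesColimit D (ModSite.sheafHom F ⋙ ModSite.restr O (σ.X i)) :=
      preservesColimit_of_natIso D e
    have h := colimit.post_post D (ModSite.sheafHom F) (ModSite.restr O (σ.X i))
    exact @IsIso.of_isIso_fac_left _ _ _ _ _ _ _ _ inferInstance
      (inferInstance : IsIso (colimit.post D (ModSite.sheafHom F ⋙ ModSite.restr O (σ.X i)))) h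
  haveI := key
  haveI := isIso_of_isIso_restr σ.coversTop (colimit.post D (ModSite.sheafHom F))
  exact preservesColimit_of_isIso_post (ModSite.sheafHom F) D

end Groth.Agent.ShHomColim
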