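import Groth.Agent.ShHomColim.Basic
import Groth.Agent.ToposFinLib.Colim
import Groth.Agent.ToposFinLib.Decomp
import Groth.Agent.ToposFinLib.Underlying
import Groth.Agent.SiteBase.ModColim

/-!
# Global homs out of modules of finite presentation on a quasi-compact topos commute with filtered colimits
-/

set_option linter.style.haveILetI false
set_option backward.isDefEq.respectTransparency false
set_option backward.isDefEq.respectTransparency.types false

universe u

open CategoryTheory CategoryTheory.Limits Opposite ToposFin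

namespace Groth.Agent.ShHomColim

open Groth.Agent.ToposFinLib

variable {C : Type u} [SmallCategory C] {J : GrothendieckTopology C}

/-- The product with itself being quasi-compact, so is the object. -/
theorem isQC_of_isQC_prod (K : Sh J) (h : IsQC (K ⨯ K)) : IsQC K := by
  haveI : Epi (prod.fst : K ⨯ K ⟶ K) := (SplitEpi.mk (diag K) (prod.lift_fst _ _)).epi
  exact isQC_of_epi (prod.fst : K ⨯ K ⟶ K) h

/-- A map from a quasi-compact object to a coproduct of pullbacks of stages factors through a stage. -/
theorem exists_stage_of_coprod {Λ : Type u} [SmallCategory Λ] [IsFiltered Λ] {D : Λ ⥤ Sh J} {c : Cocone D}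
    {P : Λ → Sh J} (p : ∀ i, P i ⟶ D.obj i) {K : Sh J} (hK : IsQC K) (k : K ⟶ ∐ P) :
    ∃ (j : Λ) (h : K ⟶ D.obj j), h ≫ c.ι.app j = k ≫ Sigma.desc (fun i => p i ≫ c.ι.app i) := by
  classical
  have hpart : IsPartition (fun i => Sigma.ι P i) :=
    (nonempty_isColimit_iff_isPartition (fun i => Sigma.ι P i)).1 ⟨coproductIsCoproduct P⟩
  obtain ⟨s, hs⟩ := isQC_iff.1 hK _ _ _ (hpart.cov.pullback_snd k)
  obtain ⟨j₀, hj₀⟩ := IsFiltered.sup_objs_exists s
  let u : ∀ i : s, i.1 ⟶ j₀ := fun i => (hj₀ i.2).some
  let π : ∀ i : s, Limits.pullback (Sigma.ι P i.1) k ⟶ K := fun i => pullback.snd _ _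
  let t : ∀ i : s, Limits.pullback (Sigma.ι P i.1) k ⟶ D.obj j₀ := fun i =>
    pullback.fst _ _ ≫ p i.1 ≫ D.map (u i)
  obtain ⟨h, hh⟩ := Cov.exists_desc (π := π) hs t fun a b => by
    by_cases hab : a = b
    · subst hab
      haveI := hpart.mono a.1
      rw [(cancel_mono (π a)).1 (pullback.condition (f := π a) (g := π a))]
    · have hab' : a.1 ≠ b.1 := fun e => hab (Subtype.ext e)
      let m : Limits.pullback (π a) (π b) ⟶ Limits.pullback (Sigma.ι P a.1) (Sigma.ι P b.1) :=
        pullback.lift (pullback.fst (π a) (π b) ≫ pullback.fst _ _) (pullback.snd (π a) (π b) ≫ pullback.fst _ _)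
          (by simp only [Category.assoc, pullback.condition, π, pullback.condition_assoc])
      have hn : IsNullObj (Limits.pullback (π a) (π b)) := fun U z =>
        hpart.isNullObj_pullback hab' (m.hom.app (op U) z)
      exact hn.isInitial.hom_ext _ _
  refine ⟨j₀, h, hs.hom_ext fun i => ?_⟩
  rw [← Category.assoc, ← Category.assoc, hh i, ← pullback.condition]
  simp only [t, Category.assoc, Sigma.ι_desc, c.w]

/-- Global sections of sheaves of sets commute with filtered colimits. -/
theorem preserves_globalSections (S : Set (Sh J))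
    (hSa : ∀ F : Sh J, Epi (terminal.from F) → ∃ K ∈ S, Epi (terminal.from K) ∧ Nonempty (K ⟶ F))
    (hSb : ∀ K ∈ S, IsQC (K ⨯ K)) {Λ : Type u} [SmallCategory Λ] [IsFiltered Λ] (D : Λ ⥤ Sh J) :
    PreservesColimit D (coyoneda.obj (op (⊤_ (Sh J)))) := by
  have hT : IsQC (⊤_ (Sh J)) := by
    obtain ⟨K, hK, he, -⟩ := hSa (⊤_ (Sh J)) (by rw [terminal.hom_ext (terminal.from _) (𝟙 _)]; infer_instance)
    exact isQC_of_epi (terminal.from K) (isQC_of_isQC_prod K (hSb K hK))
  have hb : Function.Bijective (colimit.post D (coyoneda.obj (op (⊤_ (Sh J))))) := by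
    refine ⟨(injective_post_iff _ D).2 fun i h h' e => exists_stage_eq hT (colimit.isColimit D) i h h' e,
      (surjective_post_iff _ D).2 fun y => ?_⟩
    let P : Λ → Sh J := fun i => Limits.pullback (colimit.ι D i) y
    have hc : Cov (fun i => (pullback.snd (colimit.ι D i) y : P i ⟶ _)) :=
      (cov_ι_of_isColimit (colimit.isColimit D)).pullback_snd y
    haveI := epi_desc_iff.2 hc
    have hd : terminal.from (∐ P) = Sigma.desc (fun i => pullback.snd (colimit.ι D i) y) := terminal.hom_ext _ _
    obtain ⟨K, hK, he, ⟨k⟩⟩ := hSa (∐ P) (by rw [hd]; infer_instance)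
    obtain ⟨j, h, hh⟩ := exists_stage_of_coprod (c := colimit.cocone D)
      (fun i => (pullback.fst (colimit.ι D i) y : P i ⟶ D.obj i)) (isQC_of_isQC_prod K (hSb K hK)) k
    have hy : h ≫ colimit.ι D j = terminal.from K ≫ y := by
      refine hh.trans ?_
      rw [show terminal.from K = k ≫ Sigma.desc (fun i => pullback.snd (colimit.ι D i) y) from
        terminal.hom_ext _ _, Category.assoc]
      refine congrArg (k ≫ ·) (Sigma.hom_ext _ _ fun i => ?_)
      simp only [Sigma.ι_desc, Sigma.ι_desc_assoc]
      exact pullback.condition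
    obtain ⟨l, v, hv⟩ := exists_stage_eq (hSb K hK) (colimit.isColimit D) j (prod.fst ≫ h) (prod.snd ≫ h) (by
      show (prod.fst ≫ h) ≫ colimit.ι D j = (prod.snd ≫ h) ≫ colimit.ι D j
      simp only [Category.assoc, hy]
      rw [← Category.assoc, ← Category.assoc,
        terminal.hom_ext (prod.fst ≫ terminal.from K) (prod.snd ≫ terminal.from K)])
    haveI := he
    obtain ⟨g, hg⟩ := (cov_of_epi.{u} (terminal.from K)).exists_desc (fun _ => h ≫ D.map v) fun _ _ => by
      have := congrArg (prod.lift (pullback.fst (terminal.from K) (terminal.from K))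
        (pullback.snd (terminal.from K) (terminal.from K)) ≫ ·) hv
      simpa only [Category.assoc, prod.lift_fst_assoc, prod.lift_snd_assoc] using this
    refine ⟨l, g, (cancel_epi (terminal.from K)).1 ?_⟩
    rw [← Category.assoc, hg PUnit.unit, Category.assoc, colimit.w, hy]
  haveI := (isIso_iff_bijective _).2 hb
  exact preservesColimit_of_isIso_post _ D

variable (O : Sheaf J CommRingCat.{u})

/-- The underlying sheaf of sets of a module. -/
noncomputable abbrev underMod : ModSite.Mod O ⥤ Sh J :=
  SheafOfModules.toSheaf (ModSite.ringSh O) ⋙ underlying J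

/-- An element of the terminal sheaf of sets. -/
noncomputable def termPt (V : Cᵒᵖ) : (⊤_ (Sh J)).obj.obj V :=
  ((IsTerminal.isTerminalObj (sheafToPresheaf J (Type u) ⋙ (evaluation Cᵒᵖ (Type u)).obj V) _
    terminalIsTerminal).from PUnit.{u + 1}) PUnit.unit

theorem termPt_unique {V : Cᵒᵖ} (a b : (⊤_ (Sh J)).obj.obj V) : a = b := by
  let hI := IsTerminal.isTerminalObj (sheafToPresheaf J (Type u) ⋙ (evaluation Cᵒᵖ (Type u)).obj V) _
    terminalIsTerminal
  exact ConcreteCategory.congr_hom (hI.hom_ext (TypeCat.ofHom fun _ : PUnit.{u + 1} => a) (TypeCat.ofHom fun _ => b))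
    PUnit.unit

/-- Global sections of a module. -/
noncomputable def globalEquiv (M : ModSite.Mod O) : (ModSite.unit O ⟶ M) ≃ (⊤_ (Sh J) ⟶ (underMod O).obj M) :=
  M.unitHomEquiv.trans
  { toFun s := ⟨{ app := fun V => TypeCat.ofHom fun _ => s.val V
                  naturality := fun V W f => ConcreteCategory.hom_ext _ _ fun _ => (s.property f).symm }⟩
    invFun m := ⟨fun V => m.hom.app V (termPt V), fun {V W} f =>
      (ConcreteCategory.congr_hom (m.hom.naturality f) (termPt V)).symm.trans
        (congrArg (m.hom.app W) (termPt_unique _ _))⟩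
    left_inv s := rfl
    right_inv m := by
      ext V z
      exact congrArg (m.hom.app V) (termPt_unique _ _) }

/-- Homs out of a module of finite presentation commute with filtered colimits. -/
theorem preserves_hom (S : Set (Sh J))
    (hSa : ∀ F : Sh J, Epi (terminal.from F) → ∃ K ∈ S, Epi (terminal.from K) ∧ Nonempty (K ⟶ F))
    (hSb : ∀ K ∈ S, IsQC (K ⨯ K))
    (F : ModSite.Mod O) [SheafOfModules.IsFinitePresentation (R := ModSite.ringSh O) F]
    {Λ : Type u} [SmallCategory Λ] [IsFiltered Λ] (D : Λ ⥤ ModSite.Mod O) :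
    PreservesColimit D (coyoneda.obj (op F)) := by
  haveI := ModTensor.hasSheafHom F
  haveI := preserves_sheafHom F D
  haveI := SiteBase.preservesColimitsOfSize_toSheaf (ModSite.ringSh O)
  haveI : PreservesColimitsOfShape Λ (underMod O) := comp_preservesColimitsOfShape _ _
  haveI := preserves_globalSections S hSa hSb ((D ⋙ ModSite.sheafHom F) ⋙ underMod O)
  haveI : PreservesColimit (D ⋙ ModSite.sheafHom F) (underMod O ⋙ coyoneda.obj (op (⊤_ (Sh J)))) :=
    inferInstance
  haveI : PreservesColimit D (ModSite.sheafHom F ⋙ underMod O ⋙ coyoneda.obj (op (⊤_ (Sh J)))) :=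
    inferInstance
  let e : ((ModSite.tensorBi O).obj (ModSite.unit O)).obj F ≅ F := (ModTensor.unitTensorIso O).app F
  let η : ModSite.sheafHom F ⋙ underMod O ⋙ coyoneda.obj (op (⊤_ (Sh J))) ≅ coyoneda.obj (op F) :=
    NatIso.ofComponents (fun M => Equiv.toIso (((globalEquiv O ((ModSite.sheafHom F).obj M)).symm.trans
      ((ModSite.sheafHomAdj F).homEquiv (ModSite.unit O) M).symm).trans
      { toFun := fun t => e.inv ≫ t
        invFun := fun t => e.hom ≫ t
        left_inv := fun t => e.hom_inv_id_assoc t
        right_inv := fun t => e.inv_hom_id_assoc t })) fun {M N} g => by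
      ext x
      obtain ⟨y, rfl⟩ := (globalEquiv O ((ModSite.sheafHom F).obj M)).surjective x
      have hnat : globalEquiv O _ (y ≫ (ModSite.sheafHom F).map g) =
          globalEquiv O _ y ≫ (underMod O).map ((ModSite.sheafHom F).map g) := rfl
      show e.inv ≫ ((ModSite.sheafHomAdj F).homEquiv _ _).symm ((globalEquiv O _).symm
          (globalEquiv O _ y ≫ (underMod O).map ((ModSite.sheafHom F).map g))) =
        (e.inv ≫ ((ModSite.sheafHomAdj F).homEquiv _ _).symm ((globalEquiv O _).symm (globalEquiv O _ y))) ≫ g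
      rw [← hnat, Equiv.symm_apply_apply, Equiv.symm_apply_apply, Adjunction.homEquiv_naturality_right_symm,
        Category.assoc]
  exact preservesColimit_of_natIso D η

end Groth.Agent.ShHomColim
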