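import Mathlib.CategoryTheory.Abelian.GrothendieckAxioms.Basic
import Mathlib.CategoryTheory.Adjunction.Additive
import Mathlib.CategoryTheory.Adjunction.Unique
import Mathlib.CategoryTheory.Limits.Preserves.Shapes.Kernels
import Mathlib.CategoryTheory.Limits.Preserves.Limits
import Mathlib.CategoryTheory.Limits.FunctorCategory.Basic

/-!
# Internal homs out of finitely presented objects commute with exact colimits
-/

universe w w' v u

open CategoryTheory CategoryTheory.Limits

namespace Groth.Agent.ShHomColim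

set_option linter.unusedSectionVars false

variable {A : Type u} [Category.{v} A] [Abelian A] (T : A ⥤ A ⥤ A) (R : A → (A ⥤ A))
  (adj : ∀ P, T.flip.obj P ⊣ R P)

/-- The map on internal homs induced by a map of the first variable. -/
noncomputable def hmap {P Q : A} (f : P ⟶ Q) : R Q ⟶ R P where
  app X := (adj P).homEquiv _ _ ((T.obj ((R Q).obj X)).map f ≫ (adj Q).counit.app X)
  naturality X Y g := by
    apply ((adj P).homEquiv _ _).symm.injective
    rw [Adjunction.homEquiv_naturality_left_symm, Equiv.symm_apply_apply,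
      Adjunction.homEquiv_naturality_right_symm, Equiv.symm_apply_apply, Category.assoc]
    show (T.map ((R Q).map g)).app P ≫ _ = _
    rw [← NatTrans.naturality_assoc]
    exact congrArg (fun t => (T.obj ((R Q).obj X)).map f ≫ t) ((adj Q).counit.naturality g)

theorem symm_comp_hmap {P Q : A} (f : P ⟶ Q) {Z X : A} (k : Z ⟶ (R Q).obj X) :
    ((adj P).homEquiv _ _).symm (k ≫ (hmap T R adj f).app X) =
      (T.obj Z).map f ≫ ((adj Q).homEquiv _ _).symm k := by
  rw [Adjunction.homEquiv_naturality_left_symm, hmap, Equiv.symm_apply_apply,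
    (adj Q).homEquiv_counit]
  show (T.map k).app P ≫ _ = _
  rw [← NatTrans.naturality_assoc]
  rfl

theorem hmap_id (P : A) : hmap T R adj (𝟙 P) = 𝟙 _ := by
  ext X
  apply ((adj P).homEquiv _ _).symm.injective
  have h := symm_comp_hmap T R adj (𝟙 P) (𝟙 ((R P).obj X))
  rw [Category.id_comp, CategoryTheory.Functor.map_id, Category.id_comp] at h
  exact h

theorem hmap_comp {P Q S : A} (f : P ⟶ Q) (g : Q ⟶ S) :
    hmap T R adj (f ≫ g) = hmap T R adj g ≫ hmap T R adj f := by
  ext X
  apply ((adj P).homEquiv _ _).symm.injective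
  have h := symm_comp_hmap T R adj (f ≫ g) (𝟙 ((R S).obj X))
  rw [Category.id_comp] at h
  rw [h, NatTrans.comp_app, symm_comp_hmap]
  have h' := symm_comp_hmap T R adj g (𝟙 ((R S).obj X))
  rw [Category.id_comp] at h'
  rw [h', Functor.map_comp, Category.assoc]

variable [∀ P, (T.flip.obj P).Additive] [∀ Z, (T.obj Z).Additive]

theorem hmap_add {P Q : A} (f g : P ⟶ Q) : hmap T R adj (f + g) = hmap T R adj f + hmap T R adj g := by
  ext X
  show (adj P).homEquiv _ _ _ = (adj P).homEquiv _ _ _ + (adj P).homEquiv _ _ _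
  rw [Functor.map_add, Preadditive.add_comp]
  exact map_add ((adj P).homAddEquiv _ _) _ _

theorem hmap_zero (P Q : A) : hmap T R adj (0 : P ⟶ Q) = 0 := by
  ext X
  show (adj P).homEquiv _ _ _ = 0
  rw [Functor.map_zero, zero_comp]
  exact map_zero ((adj P).homAddEquiv _ _)

theorem hmap_sum {P Q : A} {ι : Type*} (s : Finset ι) (f : ι → (P ⟶ Q)) :
    hmap T R adj (∑ i ∈ s, f i) = ∑ i ∈ s, hmap T R adj (f i) :=
  map_sum (AddMonoidHom.mk' (hmap T R adj (P := P) (Q := Q)) (hmap_add T R adj)) f s

theorem isLimit_hmap {Q P G : A} {f : Q ⟶ P} {g : P ⟶ G} (w : f ≫ g = 0)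
    (hc : IsColimit (CokernelCofork.ofπ g w)) [∀ Z, PreservesFiniteColimits (T.obj Z)] (X : A) :
    ∃ h : (hmap T R adj g).app X ≫ (hmap T R adj f).app X = 0,
      Nonempty (IsLimit (KernelFork.ofι ((hmap T R adj g).app X) h)) := by
  have h : (hmap T R adj g).app X ≫ (hmap T R adj f).app X = 0 := by
    rw [← NatTrans.comp_app, ← hmap_comp, w, hmap_zero]
    rfl
  have hcZ := fun Z => CokernelCofork.mapIsColimit _ hc (T.obj Z)
  have hep : ∀ Z, Epi ((T.obj Z).map g) := fun Z => Cofork.IsColimit.epi (hcZ Z)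
  have hm : Mono ((hmap T R adj g).app X) := ⟨fun {Z} a b e => by
    apply ((adj G).homEquiv _ _).symm.injective
    have := hep Z
    rw [← cancel_epi ((T.obj Z).map g), ← symm_comp_hmap, ← symm_comp_hmap, e]⟩
  refine ⟨h, ⟨Fork.IsLimit.ofExistsUnique fun s => ?_⟩⟩
  have hk : (T.obj s.pt).map f ≫ ((adj P).homEquiv _ _).symm s.ι = 0 := by
    rw [← symm_comp_hmap, KernelFork.condition s]
    exact map_zero ((adj Q).homAddEquiv _ _).symm
  obtain ⟨d, hd⟩ := CokernelCofork.IsColimit.desc' (hcZ s.pt) _ hk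
  have e : ((adj G).homEquiv _ _) d ≫ (hmap T R adj g).app X = s.ι := by
    apply ((adj P).homEquiv _ _).symm.injective
    rw [symm_comp_hmap]
    exact (congrArg (fun t => (T.obj s.pt).map g ≫ t) (Equiv.symm_apply_apply _ d)).trans hd
  exact ⟨_, e, fun l hl => (cancel_mono ((hmap T R adj g).app X)).1 (hl.trans e.symm)⟩

variable {Λ : Type w} [Category.{w'} Λ] [HasColimitsOfShape Λ A] (E : Λ ⥤ A)

theorem post_natural {P Q : A} (f : P ⟶ Q) :
    colimMap (Functor.whiskerLeft E (hmap T R adj f)) ≫ colimit.post E (R P) =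
      colimit.post E (R Q) ≫ (hmap T R adj f).app (colimit E) := by
  refine colimit.hom_ext fun j => ?_
  rw [ι_colimMap_assoc, colimit.ι_post, ← Category.assoc, colimit.ι_post]
  exact ((hmap T R adj f).naturality (colimit.ι E j)).symm

include adj in
omit [∀ P, (T.flip.obj P).Additive] [∀ Z, (T.obj Z).Additive] in
/-- The internal hom out of a unit preserves colimits. -/
theorem preserves_of_unit {u : A} (e : T.flip.obj u ≅ 𝟭 A) : PreservesColimit E (R u) := by
  have i : R u ≅ 𝟭 A := (adj u).rightAdjointUniq (Adjunction.id.ofNatIsoLeft e.symm)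
  exact preservesColimit_of_natIso E i.symm

include adj in
/-- The internal hom out of a retract of a finite sum of good objects is good. -/
theorem isIso_post_of_sum {P u : A} [IsIso (colimit.post E (R u))] {ι : Type*} [Fintype ι]
    (p : ι → (P ⟶ u)) (q : ι → (u ⟶ P)) (hpq : ∑ i, p i ≫ q i = 𝟙 P) :
    IsIso (colimit.post E (R P)) := by
  refine ⟨∑ i, (hmap T R adj (q i)).app (colimit E) ≫ inv (colimit.post E (R u)) ≫
    colimMap (Functor.whiskerLeft E (hmap T R adj (p i))), ?_, ?_⟩
  · refine colimit.hom_ext fun j => ?_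
    rw [Preadditive.comp_sum]
    have : ∀ i, colimit.ι (E ⋙ R P) j ≫ colimit.post E (R P) ≫ (hmap T R adj (q i)).app (colimit E) ≫
        inv (colimit.post E (R u)) ≫ colimMap (Functor.whiskerLeft E (hmap T R adj (p i))) =
        (hmap T R adj (p i ≫ q i)).app (E.obj j) ≫ colimit.ι (E ⋙ R P) j := fun i => by
      rw [← Category.assoc (colimit.post E (R P)), ← post_natural]
      simp only [Category.assoc, IsIso.hom_inv_id_assoc, hmap_comp, NatTrans.comp_app]
      erw [ι_colimMap_assoc, ι_colimMap]
      rfl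
    rw [Preadditive.comp_sum, Finset.sum_congr rfl (fun i _ => this i), ← Preadditive.sum_comp,
      ← NatTrans.app_sum, ← hmap_sum, hpq, hmap_id]
    exact (Category.id_comp _).trans (Category.comp_id _).symm
  · rw [Preadditive.sum_comp]
    have : ∀ i, ((hmap T R adj (q i)).app (colimit E) ≫ inv (colimit.post E (R u)) ≫
        colimMap (Functor.whiskerLeft E (hmap T R adj (p i)))) ≫ colimit.post E (R P) =
        (hmap T R adj (p i ≫ q i)).app (colimit E) := fun i => by
      simp only [Category.assoc, post_natural, IsIso.inv_hom_id_assoc, hmap_comp, NatTrans.comp_app]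
    rw [Finset.sum_congr rfl (fun i _ => this i), ← NatTrans.app_sum, ← hmap_sum, hpq, hmap_id]
    rfl

include adj in
/-- The internal hom out of a cokernel of good objects is good. -/
theorem isIso_post_of_cokernel [HasExactColimitsOfShape Λ A] [∀ Z, PreservesFiniteColimits (T.obj Z)]
    {Q P G : A} {f : Q ⟶ P} {g : P ⟶ G} (w : f ≫ g = 0) (hc : IsColimit (CokernelCofork.ofπ g w))
    [IsIso (colimit.post E (R Q))] [IsIso (colimit.post E (R P))] :
    IsIso (colimit.post E (R G)) := by
  let a := Functor.whiskerLeft E (hmap T R adj g)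
  let b := Functor.whiskerLeft E (hmap T R adj f)
  have hab : a ≫ b = 0 := NatTrans.ext (funext fun j => (isLimit_hmap T R adj w hc (E.obj j)).choose)
  have hl : IsLimit (KernelFork.ofι a hab) := evaluationJointlyReflectsLimits _ fun j =>
    (KernelFork.isLimitMapConeEquiv _ ((evaluation Λ A).obj j)).symm
      (isLimit_hmap T R adj w hc (E.obj j)).choose_spec.some
  have hl' := KernelFork.mapIsLimit _ hl (colim : (Λ ⥤ A) ⥤ A)
  have : Mono (colimMap a) := Fork.IsLimit.mono hl'
  obtain ⟨h0, ⟨hX⟩⟩ := isLimit_hmap T R adj w hc (colimit E)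
  have : Mono ((hmap T R adj g).app (colimit E)) := Fork.IsLimit.mono hX
  have hk : ((hmap T R adj g).app (colimit E) ≫ inv (colimit.post E (R P))) ≫ colimMap b = 0 := by
    rw [← cancel_mono (colimit.post E (R Q)), Category.assoc, post_natural T R adj E f]
    simp only [Category.assoc, IsIso.inv_hom_id_assoc, h0, zero_comp]
  obtain ⟨l, hl1⟩ : ∃ l : (R G).obj (colimit E) ⟶ colimit (E ⋙ R G),
      l ≫ colimMap a = (hmap T R adj g).app (colimit E) ≫ inv (colimit.post E (R P)) :=
    ⟨_, (KernelFork.IsLimit.lift' hl' _ hk).2⟩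
  have hna : colimMap a ≫ colimit.post E (R P) = _ := post_natural T R adj E g
  refine ⟨l, ?_, ?_⟩
  · rw [← cancel_mono (colimMap a), Category.assoc, hl1, ← Category.assoc, ← hna, Category.assoc,
      IsIso.hom_inv_id, Category.id_comp, Category.comp_id]
  · rw [← cancel_mono ((hmap T R adj g).app (colimit E)), Category.assoc, ← hna, ← Category.assoc, hl1,
      Category.assoc, IsIso.inv_hom_id, Category.id_comp, Category.comp_id]

include adj in
/-- The internal hom out of a finitely presented object preserves exact colimits. -/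
theorem preserves_of_presentation [HasExactColimitsOfShape Λ A] [∀ Z, PreservesFiniteColimits (T.obj Z)]
    {u : A} (e : T.flip.obj u ≅ 𝟭 A) {Q P G : A} {ι κ : Type*} [Fintype ι] [Fintype κ]
    (p : ι → (P ⟶ u)) (q : ι → (u ⟶ P)) (hpq : ∑ i, p i ≫ q i = 𝟙 P)
    (p' : κ → (Q ⟶ u)) (q' : κ → (u ⟶ Q)) (hpq' : ∑ i, p' i ≫ q' i = 𝟙 Q)
    {f : Q ⟶ P} {g : P ⟶ G} (w : f ≫ g = 0) (hc : IsColimit (CokernelCofork.ofπ g w)) :
    PreservesColimit E (R G) := by
  have := preserves_of_unit T R adj E e
  have := isIso_post_of_sum T R adj E p q hpq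
  have := isIso_post_of_sum T R adj E p' q' hpq'
  have := isIso_post_of_cokernel T R adj E w hc
  exact preservesColimit_of_isIso_post (R G) E

end Groth.Agent.ShHomColim
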